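import Mathlib
import Groth.Prelude.Def_FlatCA

set_option autoImplicit false
set_option linter.style.haveILetI false
universe u

open TensorProduct

namespace Groth.Agent.Lib.Helper14.FitEtale

section diag

variable {A C : Type u} [CommRing A] [CommRing C] [Algebra A C] (h : C)

/-- The multiplication map `C_h ⊗[A] C → C_h`. -/
noncomputable def muAway :
    (Localization.Away h) ⊗[A] C →ₐ[Localization.Away h] Localization.Away h :=
  Algebra.TensorProduct.lift (AlgHom.id (Localization.Away h) (Localization.Away h))
    (IsScalarTower.toAlgHom A C (Localization.Away h)) (fun _ _ => Commute.all _ _)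

@[simp]
lemma muAway_tmul (a : Localization.Away h) (c : C) :
    muAway (A := A) h (a ⊗ₜ c) = a * algebraMap C (Localization.Away h) c := by
  simp [muAway]

/-- The localization map `C_h ⊗[A] C → C_h ⊗[A] C_h`. -/
noncomputable def lamAway :
    (Localization.Away h) ⊗[A] C →ₐ[Localization.Away h]
      (Localization.Away h) ⊗[A] (Localization.Away h) :=
  Algebra.TensorProduct.map (AlgHom.id (Localization.Away h) (Localization.Away h))
    (IsScalarTower.toAlgHom A C (Localization.Away h))

@[simp]
lemma lamAway_tmul (a : Localization.Away h) (c : C) :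
    lamAway (A := A) h (a ⊗ₜ c) = a ⊗ₜ algebraMap C (Localization.Away h) c := by
  simp [lamAway]

lemma lmul_lamAway (y : (Localization.Away h) ⊗[A] C) :
    Algebra.TensorProduct.lmul' A (lamAway (A := A) h y) = muAway (A := A) h y := by
  induction y using TensorProduct.induction_on with
  | zero => simp
  | tmul a c => simp
  | add x y hx hy => simp only [map_add, hx, hy]

/-- `c ↦ 1 ⊗ c - (c/1) ⊗ 1`. -/
noncomputable def diffAway : C →ₗ[A] (Localization.Away h) ⊗[A] C :=
  (TensorProduct.mk A (Localization.Away h) C 1) -
    ((TensorProduct.mk A (Localization.Away h) C).flip 1).comp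
      (IsScalarTower.toAlgHom A C (Localization.Away h)).toLinearMap

lemma diffAway_apply (c : C) :
    diffAway (A := A) h c = (1 : Localization.Away h) ⊗ₜ[A] c -
      (algebraMap C (Localization.Away h) c) ⊗ₜ[A] (1 : C) := by
  simp [diffAway]

lemma sub_algebraMap_muAway_mem (s : Set C) (hs : Submodule.span A s = ⊤)
    (y : (Localization.Away h) ⊗[A] C) :
    y - algebraMap (Localization.Away h) _ (muAway (A := A) h y) ∈
      Ideal.span (diffAway (A := A) h '' s) := by
  have h1 : ∀ c : C, diffAway (A := A) h c ∈ Ideal.span (diffAway (A := A) h '' s) := by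
    intro c
    have hc : c ∈ Submodule.span A s := hs ▸ Submodule.mem_top
    induction hc using Submodule.span_induction with
    | mem x hx => exact Ideal.subset_span ⟨x, hx, rfl⟩
    | zero => rw [map_zero]; exact zero_mem _
    | add x y _ _ hx hy => rw [map_add]; exact add_mem hx hy
    | smul a x _ hx =>
      rw [map_smul]
      exact Submodule.smul_of_tower_mem _ a hx
  induction y using TensorProduct.induction_on with
  | zero => simp
  | tmul a c =>
    have : a ⊗ₜ[A] c - algebraMap (Localization.Away h) _ (muAway (A := A) h (a ⊗ₜ c)) =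
        (a ⊗ₜ[A] (1 : C)) * diffAway (A := A) h c := by
      rw [diffAway_apply, mul_sub, Algebra.TensorProduct.tmul_mul_tmul,
        Algebra.TensorProduct.tmul_mul_tmul, mul_one, one_mul, mul_one, muAway_tmul,
        Algebra.TensorProduct.algebraMap_apply, Algebra.algebraMap_self, RingHom.id_apply]
    rw [this]
    exact Ideal.mul_mem_left _ _ (h1 c)
  | add x y hx hy =>
    rw [map_add, map_add]
    have : x + y - (algebraMap (Localization.Away h) _ (muAway (A := A) h x) +
        algebraMap (Localization.Away h) _ (muAway (A := A) h y)) =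
        (x - algebraMap (Localization.Away h) _ (muAway (A := A) h x)) +
        (y - algebraMap (Localization.Away h) _ (muAway (A := A) h y)) := by ring
    rw [this]
    exact add_mem hx hy

set_option maxHeartbeats 800000 in
theorem exists_diag_idempotent [Module.Finite A C] [Algebra.Etale A (Localization.Away h)] :
    ∃ w : (Localization.Away h) ⊗[A] C, muAway (A := A) h w = 1 ∧
      ∀ y, muAway (A := A) h y = 0 → y * w = 0 := by
  classical
  letI : Algebra ((Localization.Away h) ⊗[A] C)
      ((Localization.Away h) ⊗[A] (Localization.Away h)) :=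
    (lamAway (A := A) h).toRingHom.toAlgebra
  have halg : ∀ y, algebraMap ((Localization.Away h) ⊗[A] C)
      ((Localization.Away h) ⊗[A] (Localization.Away h)) y = lamAway (A := A) h y := fun _ => rfl
  haveI : IsScalarTower (Localization.Away h) ((Localization.Away h) ⊗[A] C)
      ((Localization.Away h) ⊗[A] (Localization.Away h)) :=
    IsScalarTower.of_algebraMap_eq (fun a => ((lamAway (A := A) h).commutes a).symm)
  haveI hloc : IsLocalization ((Submonoid.powers h).map
      (Algebra.TensorProduct.includeRight (R := A) (A := Localization.Away h)))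
      ((Localization.Away h) ⊗[A] (Localization.Away h)) :=
    IsLocalization.tensorProduct_tensorProduct_right A (Localization.Away h) (Submonoid.powers h)
      (Localization.Away h) (by
        ext c
        simp only [RingHom.comp_apply, halg]
        change lamAway (A := A) h ((1 : Localization.Away h) ⊗ₜ[A] c) = _
        rw [lamAway_tmul]
        rfl)
  set M' := (Submonoid.powers h).map
      (Algebra.TensorProduct.includeRight (R := A) (A := Localization.Away h)) with hM'
  -- units
  have hunit : ∀ m : M', IsUnit (muAway (A := A) h (m : (Localization.Away h) ⊗[A] C)) := by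
    rintro ⟨m, c, ⟨k, rfl⟩, rfl⟩
    change IsUnit (muAway (A := A) h ((1 : Localization.Away h) ⊗ₜ[A] (h ^ k)))
    rw [muAway_tmul, one_mul, map_pow]
    exact (IsLocalization.Away.algebraMap_isUnit h).pow k
  haveI : Algebra.FormallyUnramified A (Localization.Away h) := inferInstance
  haveI : Algebra.EssFiniteType A (Localization.Away h) := inferInstance
  set t := Algebra.FormallyUnramified.elem A (Localization.Away h) with ht
  obtain ⟨⟨τ, s⟩, hτ⟩ := IsLocalization.surj M' t
  rw [halg, halg] at hτ
  obtain ⟨n, g, hg⟩ := Module.Finite.exists_fin (R := A) (M := C)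
  -- each generator is killed
  have hkill : ∀ j : Fin n, ∃ m : M', (m : (Localization.Away h) ⊗[A] C) *
      (diffAway (A := A) h (g j) * τ) = 0 := by
    intro j
    have h1 : lamAway (A := A) h (diffAway (A := A) h (g j) * τ) = 0 := by
      rw [map_mul, ← hτ, ← mul_assoc, diffAway_apply, map_sub, lamAway_tmul, lamAway_tmul,
        map_one, Algebra.FormallyUnramified.one_tmul_sub_tmul_one_mul_elem, zero_mul]
    rw [← halg] at h1
    exact (IsLocalization.map_eq_zero_iff M' _ _).mp h1
  choose m hm using hkill
  set mm : M' := ∏ j, m j with hmm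
  set u : (Localization.Away h) ⊗[A] C := (mm : (Localization.Away h) ⊗[A] C) * τ with hu
  have hku : ∀ j, diffAway (A := A) h (g j) * u = 0 := by
    intro j
    obtain ⟨r, hr⟩ : (m j : (Localization.Away h) ⊗[A] C) ∣ (mm : (Localization.Away h) ⊗[A] C) := by
      rw [hmm, Submonoid.coe_finsetProd]
      exact Finset.dvd_prod_of_mem _ (Finset.mem_univ j)
    rw [hu, hr]
    calc diffAway (A := A) h (g j) * ((m j : (Localization.Away h) ⊗[A] C) * r * τ)
        = r * ((m j : (Localization.Away h) ⊗[A] C) * (diffAway (A := A) h (g j) * τ)) := by ring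
      _ = 0 := by rw [hm j, mul_zero]
  have hspan : ∀ y ∈ Ideal.span (diffAway (A := A) h '' Set.range g), y * u = 0 := by
    intro y hy
    induction hy using Submodule.span_induction with
    | mem x hx =>
      obtain ⟨c, ⟨j, rfl⟩, rfl⟩ := hx
      exact hku j
    | zero => exact zero_mul _
    | add x y _ _ hx hy => rw [add_mul, hx, hy, add_zero]
    | smul a x _ hx => rw [smul_eq_mul, mul_assoc, hx, mul_zero]
  have hmu_u : IsUnit (muAway (A := A) h u) := by
    rw [hu, map_mul]
    refine (hunit mm).mul ?_
    have h2 : muAway (A := A) h τ = muAway (A := A) h (s : (Localization.Away h) ⊗[A] C) := by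
      rw [← lmul_lamAway, ← hτ, map_mul, Algebra.FormallyUnramified.lmul_elem, one_mul,
        lmul_lamAway]
    rw [h2]
    exact hunit s
  obtain ⟨v, hv⟩ := hmu_u
  refine ⟨algebraMap (Localization.Away h) _ (v⁻¹ : (Localization.Away h)ˣ) * u, ?_, ?_⟩
  · rw [map_mul, AlgHom.commutes, ← hv]
    simp
  · intro y hy
    have h3 := sub_algebraMap_muAway_mem (A := A) h (Set.range g) hg y
    rw [hy, map_zero, sub_zero] at h3
    rw [mul_comm _ u, ← mul_assoc, hspan y h3, zero_mul]

end diag

end Groth.Agent.Lib.Helper14.FitEtale
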