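import Mathlib
import Groth.Prelude.Def_FlatCA
import Groth.Prelude.Def_Fitting
import Groth.Agent.Lib.Helper14.FitEtale.Diag
import Groth.Agent.S6889
import Groth.Agent.S6890
import Groth.Agent.S6892
import Groth.Agent.S12084

set_option autoImplicit false
set_option linter.style.haveILetI false
universe u

open TensorProduct

namespace Groth.Agent.Lib.Helper14.FitEtale

section fitt

variable {R : Type u} [CommRing R] {M M' : Type u} [AddCommGroup M] [Module R M]
  [AddCommGroup M'] [Module R M']

lemma fitt_le_of_surjective [Module.Finite R M] (f : M →ₗ[R] M') (hf : Function.Surjective f)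
    (k : ℕ) : Fitt.ideal R M k ≤ Fitt.ideal R M' k :=
  (Groth.Agent.S6892.result M M' k).2.2 f hf

lemma fitt_congr [Module.Finite R M] [Module.Finite R M'] (e : M ≃ₗ[R] M') (k : ℕ) :
    Fitt.ideal R M k = Fitt.ideal R M' k :=
  le_antisymm (fitt_le_of_surjective e.toLinearMap e.surjective k)
    (fitt_le_of_surjective e.symm.toLinearMap e.symm.surjective k)

lemma fitt_zero_prod [Module.Finite R M] [Module.Finite R M'] :
    Fitt.ideal R (M × M') 0 = Fitt.ideal R M 0 * Fitt.ideal R M' 0 := by
  have := Groth.Agent.S12084.result R M M' 0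
  simpa using this

lemma fitt_zero_cyclic (g : M) (hg : Submodule.span R {g} = ⊤) :
    Fitt.ideal R M 0 = LinearMap.ker (LinearMap.toSpanSingleton R M g) := by
  have hx : Submodule.span R (Set.range (fun _ : Fin 1 => g)) = ⊤ := by
    rw [Set.range_const]; exact hg
  rw [Groth.Agent.S6889.result (fun _ : Fin 1 => g) hx 0]
  apply le_antisymm
  · rw [Ideal.span_le]
    rintro d ⟨z, e, hz, rfl⟩
    have h1 := hz 0
    simp only [Fin.sum_univ_one] at h1
    change _ ∈ LinearMap.ker _
    rw [LinearMap.mem_ker, LinearMap.toSpanSingleton_apply]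
    have : (Matrix.of fun a b => z b (e a)).det = z 0 0 := by
      rw [Matrix.det_fin_one]
      simp [Subsingleton.elim (e 0) 0]
    rw [this]
    exact h1
  · intro r hr
    rw [LinearMap.mem_ker, LinearMap.toSpanSingleton_apply] at hr
    refine Ideal.subset_span ⟨fun _ _ => r, fun _ => 0, ?_, ?_⟩
    · intro j
      simp only [Fin.sum_univ_one]
      exact hr
    · rw [Matrix.det_fin_one]
      rfl

end fitt

section idem

variable {R P : Type u} [CommRing R] [CommRing P] [Algebra R P] [Module.Finite R P]

theorem fitt_zero_of_idempotent (e : P) (he : e * e = e) (hgen : ∀ x : P, ∃ r : R, e * x = r • e) :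
    ∃ J' : Ideal R, Fitt.ideal R P 0 =
        (LinearMap.ker (LinearMap.toSpanSingleton R P e)) * J' ∧
      (Module.FinitePresentation R P → J'.FG) := by
  classical
  let ε : P →ₗ[R] P := LinearMap.mulLeft R e
  have hεa : ∀ x, ε x = e * x := fun _ => rfl
  have hε : IsIdempotentElem ε := by
    refine LinearMap.ext fun x => ?_
    rw [Module.End.mul_apply, hεa, hεa, ← mul_assoc, he]
  have hc := LinearMap.IsIdempotentElem.isCompl hε
  let e₂ := Submodule.prodEquivOfIsCompl (LinearMap.range ε) (LinearMap.ker ε) hc
  haveI : Module.Finite R (LinearMap.range ε) := Module.Finite.range ε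
  haveI : Module.Finite R (LinearMap.ker ε) :=
    Module.Finite.of_surjective (Submodule.projectionOnto _ _ hc.symm)
      (Submodule.projectionOnto_surjective hc.symm)
  have hF3 : Fitt.ideal R P 0 = Fitt.ideal R (LinearMap.range ε × LinearMap.ker ε) 0 :=
    (fitt_congr e₂ 0).symm
  let g₁ : LinearMap.range ε := ⟨e, ⟨1, by rw [hεa, mul_one]⟩⟩
  have hg₁ : Submodule.span R {g₁} = ⊤ := by
    rw [eq_top_iff]
    rintro ⟨x, y, rfl⟩ -
    rw [Submodule.mem_span_singleton]
    obtain ⟨r, hr⟩ := hgen y
    refine ⟨r, ?_⟩
    apply Subtype.ext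
    change r • e = e * y
    exact hr.symm
  have hF5 : Fitt.ideal R (LinearMap.range ε) 0 =
      LinearMap.ker (LinearMap.toSpanSingleton R P e) := by
    rw [fitt_zero_cyclic g₁ hg₁]
    ext a
    rw [LinearMap.mem_ker, LinearMap.mem_ker, LinearMap.toSpanSingleton_apply,
      LinearMap.toSpanSingleton_apply]
    constructor
    · intro h1
      exact congrArg Subtype.val h1
    · intro h1
      exact Subtype.ext h1
  refine ⟨Fitt.ideal R (LinearMap.ker ε) 0, ?_, ?_⟩
  · rw [hF3, fitt_zero_prod, hF5]
  · intro hfp
    haveI := hfp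
    haveI : Module.FinitePresentation R (LinearMap.ker ε) :=
      Module.finitePresentation_of_surjective (Submodule.projectionOnto _ _ hc.symm)
        (Submodule.projectionOnto_surjective hc.symm) (by
          rw [Submodule.ker_projectionOnto]
          exact (Module.Finite.iff_fg).mp inferInstance)
    exact (Groth.Agent.S6892.result (LinearMap.ker ε) (LinearMap.ker ε) 0).2.1 inferInstance

end idem

section main

variable {A C : Type u} [CommRing A] [CommRing C] [Algebra A C] [Module.Finite A C] (h : C)
  [Algebra.Etale A (Localization.Away h)] (J : Ideal C)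

set_option maxHeartbeats 1600000 in
theorem exists_ideal_fitting :
    ∃ J' : Ideal (Localization.Away h),
      (Fitt.ideal A (C ⧸ J) 0).map (algebraMap A (Localization.Away h)) =
        J.map (algebraMap C (Localization.Away h)) * J' ∧
      (Module.FinitePresentation A (C ⧸ J) → J'.FG) := by
  classical
  obtain ⟨w, hw1, hwK⟩ := exists_diag_idempotent (A := A) h
  set JC' : Ideal ((Localization.Away h) ⊗[A] C) :=
    J.map (Algebra.TensorProduct.includeRight (R := A) (A := Localization.Away h)) with hJC'
  have hww : w * w = w := by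
    have h1 := hwK (1 - w) (by rw [map_sub, map_one, hw1, sub_self])
    rw [sub_mul, one_mul, sub_eq_zero] at h1
    exact h1.symm
  have hcw : ∀ c' : (Localization.Away h) ⊗[A] C,
      c' * w = algebraMap (Localization.Away h) _ (muAway (A := A) h c') * w := by
    intro c'
    have h1 := hwK (c' - algebraMap (Localization.Away h) _ (muAway (A := A) h c')) (by
      rw [map_sub, AlgHom.commutes, Algebra.algebraMap_self, RingHom.id_apply, sub_self])
    rw [sub_mul, sub_eq_zero] at h1
    exact h1
  let e₁ := Algebra.TensorProduct.tensorQuotientEquiv (R := A) (Localization.Away h) C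
    (Localization.Away h) J
  haveI : Module.Finite (Localization.Away h) (((Localization.Away h) ⊗[A] C) ⧸ JC') :=
    Module.Finite.of_surjective (Ideal.Quotient.mkₐ (Localization.Away h) JC').toLinearMap
      (Ideal.Quotient.mkₐ_surjective (Localization.Away h) JC')
  haveI : Module.Finite A (C ⧸ J) :=
    Module.Finite.of_surjective (Ideal.Quotient.mkₐ A J).toLinearMap
      (Ideal.Quotient.mkₐ_surjective A J)
  have hF1 : (Fitt.ideal A (C ⧸ J) 0).map (algebraMap A (Localization.Away h)) =
      Fitt.ideal (Localization.Away h) ((Localization.Away h) ⊗[A] (C ⧸ J)) 0 :=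
    (Groth.Agent.S6890.result (C ⧸ J) 0).symm
  have hF2 : Fitt.ideal (Localization.Away h) ((Localization.Away h) ⊗[A] (C ⧸ J)) 0 =
      Fitt.ideal (Localization.Away h) (((Localization.Away h) ⊗[A] C) ⧸ JC') 0 :=
    fitt_congr e₁.toLinearEquiv 0
  obtain ⟨J', hJ', hfg⟩ := fitt_zero_of_idempotent (R := Localization.Away h)
    (P := ((Localization.Away h) ⊗[A] C) ⧸ JC') (Ideal.Quotient.mk JC' w)
    (by rw [← map_mul, hww]) (by
      intro x
      obtain ⟨c', rfl⟩ := Ideal.Quotient.mk_surjective x
      refine ⟨muAway (A := A) h c', ?_⟩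
      rw [← map_mul, mul_comm w c', hcw c', Algebra.smul_def, map_mul]
      rfl)
  have hker : LinearMap.ker (LinearMap.toSpanSingleton (Localization.Away h)
      (((Localization.Away h) ⊗[A] C) ⧸ JC') (Ideal.Quotient.mk JC' w)) =
      J.map (algebraMap C (Localization.Away h)) := by
    have hmem : ∀ a : Localization.Away h,
        a ∈ LinearMap.ker (LinearMap.toSpanSingleton (Localization.Away h)
          (((Localization.Away h) ⊗[A] C) ⧸ JC') (Ideal.Quotient.mk JC' w)) ↔
          algebraMap (Localization.Away h) ((Localization.Away h) ⊗[A] C) a * w ∈ JC' := by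
      intro a
      have h0 : a • Ideal.Quotient.mk JC' w =
          Ideal.Quotient.mk JC' (algebraMap (Localization.Away h) _ a * w) := by
        rw [← Algebra.smul_def]; rfl
      rw [LinearMap.mem_ker, LinearMap.toSpanSingleton_apply, h0, Ideal.Quotient.eq_zero_iff_mem]
    apply le_antisymm
    · intro a ha
      rw [hmem] at ha
      have hμ : JC' ≤ (J.map (algebraMap C (Localization.Away h))).comap
          (muAway (A := A) h).toRingHom := by
        rw [hJC', Ideal.map_le_iff_le_comap]
        intro j hj
        rw [Ideal.mem_comap, Ideal.mem_comap]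
        change muAway (A := A) h ((1 : Localization.Away h) ⊗ₜ[A] j) ∈ _
        rw [muAway_tmul, one_mul]
        exact Ideal.mem_map_of_mem _ hj
      have h2 := hμ ha
      rw [Ideal.mem_comap] at h2
      change muAway (A := A) h _ ∈ _ at h2
      rwa [map_mul, hw1, mul_one, AlgHom.commutes, Algebra.algebraMap_self,
        RingHom.id_apply] at h2
    · rw [Ideal.map_le_iff_le_comap]
      intro j hj
      rw [Ideal.mem_comap]
      change _ ∈ LinearMap.ker _
      rw [hmem]
      have h1 := hcw ((1 : Localization.Away h) ⊗ₜ[A] j)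
      rw [muAway_tmul, one_mul] at h1
      rw [← h1]
      exact Ideal.mul_mem_right _ _ (Ideal.mem_map_of_mem _ hj)
  refine ⟨J', ?_, ?_⟩
  · rw [hF1, hF2, hJ', hker]
  · intro hfp
    haveI := hfp
    haveI : Module.FinitePresentation (Localization.Away h)
        ((Localization.Away h) ⊗[A] (C ⧸ J)) := inferInstance
    refine hfg ?_
    exact Module.finitePresentation_of_surjective e₁.toLinearEquiv.toLinearMap
      e₁.surjective (by
        rw [LinearEquiv.ker]
        exact Submodule.fg_bot)

end main

section final

lemma fittingZero_eq (R : Type u) [CommRing R] (M : Type u) [AddCommGroup M] [Module R M] :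
    FlatCA.fittingZero R M = Fitt.ideal R M 0 := by
  unfold FlatCA.fittingZero Fitt.ideal
  congr 1
  ext d
  simp only [Set.mem_setOf_eq, Nat.sub_zero, Fin.is_lt, forall_const]

theorem finitePresentation_quotient_of_fg {A C : Type u} [CommRing A] [CommRing C] [Algebra A C]
    [Module.Finite A C] [Module.Projective A C] (J : Ideal C) (hJ : J.FG) :
    Module.FinitePresentation A (C ⧸ J) := by
  haveI : Module.FinitePresentation A C := Module.finitePresentation_of_projective A C
  haveI : Module.Finite C J := Module.Finite.iff_fg.mpr hJ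
  haveI : Module.Finite A J := Module.Finite.trans C J
  refine Module.finitePresentation_of_surjective (Ideal.Quotient.mkₐ A J).toLinearMap
    (Ideal.Quotient.mkₐ_surjective A J) ?_
  have hk : LinearMap.ker (Ideal.Quotient.mkₐ A J).toLinearMap = J.restrictScalars A := by
    ext x
    rw [LinearMap.mem_ker, Submodule.restrictScalars_mem]
    exact Ideal.Quotient.eq_zero_iff_mem
  rw [hk]
  exact (Module.Finite.iff_fg (R := A) (N := J.restrictScalars A)).mp ‹Module.Finite A J›

end final

end Groth.Agent.Lib.Helper14.FitEtale
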