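import Mathlib
import Groth.Prelude.Def_FlatCA
import Groth.Prelude.Def_Fitting
import Groth.Agent.Lib.Helper14.FitEtale.Main

set_option autoImplicit false
set_option linter.style.haveILetI false
universe u

open TensorProduct

namespace Groth.Agent.Lib.Helper14.FitEtale

lemma pow_mem_fitt_zero {R : Type u} [CommRing R] {M : Type u} [AddCommGroup M] [Module R M]
    [Module.Finite R M] (r : R) (hr : ∀ m : M, r • m = 0) :
    r ∈ (Fitt.ideal R M 0).radical := by
  obtain ⟨n, x, hx⟩ := Module.Finite.exists_fin (R := R) (M := M)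
  refine ⟨n, Ideal.subset_span ⟨n, x, r • (1 : Matrix (Fin n) (Fin n) R), hx, ?_, ?_⟩⟩
  · intro i _
    simp only [Matrix.smul_apply, Matrix.one_apply, smul_eq_mul, mul_ite, mul_one, mul_zero,
      ite_smul, zero_smul, Finset.sum_ite_eq, Finset.mem_univ, if_true]
    exact hr _
  · rw [Matrix.det_smul, Matrix.det_one, mul_one, Fintype.card_fin]

section transport

variable {A C S : Type u} [CommRing A] [CommRing C] [CommRing S] [Algebra A C] [Algebra A S]
  [Module.Finite A C] [Module.Projective A C] (h : C) [Algebra.Etale A (Localization.Away h)]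

theorem exists_ideal_of_algEquiv_away (θ : S ≃ₐ[A] Localization.Away h) (JS : Ideal S)
    (hJS : JS.FG) (a : A) (ha : algebraMap A S a ∈ JS.radical) :
    ∃ (I : Ideal A) (J' : Ideal S), I.FG ∧ a ∈ I.radical ∧ J'.FG ∧
      I.map (algebraMap A S) = JS * J' := by
  classical
  set Jh : Ideal (Localization.Away h) := JS.map (θ : S →+* Localization.Away h) with hJh
  have hJhfg : Jh.FG := hJS.map _
  obtain ⟨N, hN⟩ := ha
  have haN : algebraMap A (Localization.Away h) a ^ N ∈ Jh := by
    have := Ideal.mem_map_of_mem (θ : S →+* Localization.Away h) hN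
    rwa [map_pow, RingHom.coe_coe, AlgEquiv.commutes] at this
  obtain ⟨T, hT⟩ := hJhfg
  have hsurj : ∀ y : Localization.Away h, ∃ (c : C) (n : ℕ),
      y * algebraMap C (Localization.Away h) h ^ n = algebraMap C (Localization.Away h) c := by
    intro y
    obtain ⟨⟨c, ⟨_, n, rfl⟩⟩, e⟩ := IsLocalization.surj (Submonoid.powers h) y
    exact ⟨c, n, by simpa using e⟩
  choose c n hcn using hsurj
  set JC : Ideal C := Ideal.span ((T.image c : Set C) ∪ {algebraMap A C a ^ N}) with hJC
  have hJCfg : JC.FG := by
    refine ⟨T.image c ∪ {algebraMap A C a ^ N}, ?_⟩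
    rw [hJC]
    congr 1
    push_cast
    rfl
  have hu : IsUnit (algebraMap C (Localization.Away h) h) :=
    IsLocalization.Away.algebraMap_isUnit h
  have hmap : JC.map (algebraMap C (Localization.Away h)) = Jh := by
    apply le_antisymm
    · rw [hJC, Ideal.map_span, Ideal.span_le]
      rintro _ ⟨x, hx, rfl⟩
      rcases hx with hx | hx
      · obtain ⟨y, hy, rfl⟩ := Finset.mem_image.mp (Finset.mem_coe.mp hx)
        rw [← hcn y]
        exact Ideal.mul_mem_right _ _ (hT ▸ Ideal.subset_span hy)
      · rw [Set.mem_singleton_iff] at hx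
        rw [hx, map_pow, ← IsScalarTower.algebraMap_apply]
        exact haN
    · rw [← hT, Ideal.span_le]
      intro y hy
      have h1 : algebraMap C (Localization.Away h) (c y) ∈
          JC.map (algebraMap C (Localization.Away h)) :=
        Ideal.mem_map_of_mem _ (Ideal.subset_span (Or.inl (Finset.mem_coe.mpr
          (Finset.mem_image_of_mem c hy))))
      rw [← hcn y] at h1
      exact (Ideal.mul_unit_mem_iff_mem (JC.map (algebraMap C (Localization.Away h)))
        (hu.pow (n y))).mp h1
  obtain ⟨J'h, hfit, hfg⟩ := exists_ideal_fitting (A := A) h JC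
  have hfp := finitePresentation_quotient_of_fg (A := A) JC hJCfg
  haveI : Module.Finite A (C ⧸ JC) := Module.Finite.of_surjective
    (Ideal.Quotient.mkₐ A JC).toLinearMap (Ideal.Quotient.mkₐ_surjective A JC)
  refine ⟨Fitt.ideal A (C ⧸ JC) 0, J'h.map (θ.symm : Localization.Away h →+* S),
    (Groth.Agent.S6892.result (C ⧸ JC) (C ⧸ JC) 0).2.1 hfp, ?_, (hfg hfp).map _, ?_⟩
  · -- `a ∈ rad I`
    have h1 : algebraMap A C a ^ N ∈ JC := Ideal.subset_span (Or.inr rfl)
    have h2 : ∀ m : C ⧸ JC, (a ^ N) • m = 0 := by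
      intro m
      obtain ⟨m, rfl⟩ := Ideal.Quotient.mk_surjective m
      rw [← Ideal.Quotient.mk_eq_mk, ← Submodule.Quotient.mk_smul, Ideal.Quotient.mk_eq_mk,
        Ideal.Quotient.eq_zero_iff_mem, Algebra.smul_def, map_pow]
      exact Ideal.mul_mem_right _ _ h1
    have h3 := pow_mem_fitt_zero (a ^ N) h2
    have h4 : a ∈ (Fitt.ideal A (C ⧸ JC) 0).radical.radical := ⟨N, h3⟩
    rwa [Ideal.radical_idem] at h4
  · have hθ : (θ.symm : Localization.Away h →+* S).comp (algebraMap A (Localization.Away h)) =
        algebraMap A S := by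
      ext x
      simp
    rw [← hθ, ← Ideal.map_map, hfit, hmap, Ideal.map_mul, hJh, Ideal.map_map]
    congr 1
    have : (θ.symm : Localization.Away h →+* S).comp (θ : S →+* Localization.Away h) =
        RingHom.id S := by
      ext x
      simp
    rw [this, Ideal.map_id]

end transport

end Groth.Agent.Lib.Helper14.FitEtale
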